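import Cfsg.Agent.H577.GLB.StdCount
import Cfsg.Agent.H614.GLn.RSForm

/-!
# HUB S4536 / S4537, section DA: labels and twists in the standard model (helper157)
-/

set_option autoImplicit false
set_option linter.unusedSectionVars false

open scoped ComplexConjugate

namespace Cfsg.Agent.H157.GLB

open MvPolynomial Cfsg.Agent.H614 Cfsg.Agent.H577.GLB.Std
open Cfsg.Agent.H614.GLn.RSt (SameZ.symm' SameZ.trans' sameZ_refl canon_eq_of_same canon_canon perZ_pos pow_mul_eq_iff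
  perZ_of_same zz_eq')

variable {Q : ℤ} {M : ℕ} [NeZero M] {p : ℕ}

theorem canon_eq_iff (hQ : IsUnit (Q : ZMod M)) (c c' : ZMod M) : canon Q M c = canon Q M c' ↔ SameZ Q M c c' :=
  Cfsg.Agent.H614.GLn.RSt.canon_eq_iff hQ

theorem sameZ_canon (_hQ : IsUnit (Q : ZMod M)) (c : ZMod M) : SameZ Q M c (canon Q M c) :=
  Cfsg.Agent.H614.GLn.RSt.sameZ_canon c

theorem torZ_iff (_hQ : IsUnit (Q : ZMod M)) (k : ℕ) (c : ZMod M) : TorZ Q M k c ↔ perZ Q M c ∣ k :=
  Cfsg.Agent.H614.GLn.RSt.torZ_iff k c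

theorem torZ_congr (hQ : IsUnit (Q : ZMod M)) {c c' : ZMod M} (h : SameZ Q M c c') (k : ℕ) :
    TorZ Q M k c ↔ TorZ Q M k c' := by
  rw [torZ_iff hQ, torZ_iff hQ, perZ_of_same hQ h]

theorem rv_congr (hQ : IsUnit (Q : ZMod M)) {c c' : ZMod M} (h : SameZ Q M c c') (k : ℕ) :
    rv Q M k c = rv Q M k c' := by
  unfold rv
  by_cases hk : 0 < k ∧ TorZ Q M k c
  · rw [if_pos hk, if_pos ⟨hk.1, (torZ_congr hQ h k).1 hk.2⟩, (canon_eq_iff hQ c c').2 h]
  · rw [if_neg hk, if_neg fun h' => hk ⟨h'.1, (torZ_congr hQ h k).2 h'.2⟩]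

theorem sameZ_mul (c : ZMod M) : SameZ Q M c ((Q : ZMod M) * c) := ⟨1, by rw [pow_one]⟩

theorem rv_mul (hQ : IsUnit (Q : ZMod M)) (k : ℕ) (c : ZMod M) : rv Q M k ((Q : ZMod M) * c) = rv Q M k c :=
  (rv_congr hQ (sameZ_mul c) k).symm

theorem zz_eq (hQ : IsUnit (Q : ZMod M)) (k : ℕ) (c : ZMod M) (h : TorZ Q M k c) : zz Q M (k, c) * perZ Q M c = k := by
  rw [mul_comm]
  exact zz_eq' hQ h

/-! ### translations -/

theorem pow_mul_tor {a : ZMod M} (ha : TorZ Q M 1 a) (j : ℕ) : (Q : ZMod M) ^ j * a = a := by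
  unfold TorZ at ha
  rw [pow_one, sub_mul, one_mul, sub_eq_zero] at ha
  induction j with
  | zero => rw [pow_zero, one_mul]
  | succ j ih => rw [pow_succ', mul_assoc, ih, ha]

theorem tor_neg {a : ZMod M} (ha : TorZ Q M 1 a) : TorZ Q M 1 (-a) := by
  unfold TorZ at ha ⊢
  rw [mul_neg, ha, neg_zero]

theorem SameZ.add {a : ZMod M} (ha : TorZ Q M 1 a) {c c' : ZMod M} (h : SameZ Q M c c') :
    SameZ Q M (c + a) (c' + a) := by
  obtain ⟨j, rfl⟩ := h
  exact ⟨j, by rw [mul_add, pow_mul_tor ha]⟩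

theorem SameZ.sub {a : ZMod M} (ha : TorZ Q M 1 a) {c c' : ZMod M} (h : SameZ Q M c c') :
    SameZ Q M (c - a) (c' - a) := by
  rw [sub_eq_add_neg, sub_eq_add_neg]
  exact SameZ.add (tor_neg ha) h

theorem perZ_add (_hQ : IsUnit (Q : ZMod M)) (a c : ZMod M) (ha : TorZ Q M 1 a) : perZ Q M (c + a) = perZ Q M c := by
  have key : ∀ j : ℕ, perZ Q M (c + a) ∣ j ↔ perZ Q M c ∣ j := by
    intro j
    rw [← pow_mul_eq_iff, ← pow_mul_eq_iff, mul_add, pow_mul_tor ha, add_left_inj]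
  exact Nat.dvd_antisymm ((key _).2 dvd_rfl) ((key _).1 dvd_rfl)

theorem torZ_add (hQ : IsUnit (Q : ZMod M)) {a : ZMod M} (ha : TorZ Q M 1 a) (k : ℕ) (c : ZMod M) :
    TorZ Q M k (c + a) ↔ TorZ Q M k c := by
  rw [torZ_iff hQ, torZ_iff hQ, perZ_add hQ a c ha]

theorem twist_rv (hQ : IsUnit (Q : ZMod M)) (a : ZMod M) (ha : TorZ Q M 1 a) (k : ℕ) (c : ZMod M) :
    twist Q M a (rv Q M k c) = rv Q M k (c + a) := by
  by_cases h : 0 < k ∧ TorZ Q M k c
  · have h1 : rv Q M k c = X (k, canon Q M c) := by rw [rv, if_pos h]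
    rw [h1, twist, aeval_X]
    exact rv_congr hQ (SameZ.add ha (SameZ.symm' hQ (sameZ_canon hQ c))) k
  · have h1 : rv Q M k c = 0 := by rw [rv, if_neg h]
    have h2 : rv Q M k (c + a) = 0 := by rw [rv, if_neg (by rw [torZ_add hQ ha]; exact h)]
    rw [h1, h2, map_zero]

theorem twist_Pw (hQ : IsUnit (Q : ZMod M)) (a : ZMod M) (ha : TorZ Q M 1 a) (j : ℕ) (c : ZMod M) :
    twist Q M a (Pw Q M j c) = Pw Q M j (c + a) := by
  rw [Pw, Pw, twist_rv hQ a ha, perZ_add hQ a c ha]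

theorem Pw_congr (hQ : IsUnit (Q : ZMod M)) {c c' : ZMod M} (h : SameZ Q M c c') (j : ℕ) :
    Pw Q M j c = Pw Q M j c' := by
  rw [Pw, Pw, perZ_of_same hQ h, rv_congr hQ h]

theorem Sch_congr (hQ : IsUnit (Q : ZMod M)) {c c' : ZMod M} (h : SameZ Q M c c') {m : ℕ} (β : Fin m → ℕ) :
    Sch Q M c β = Sch Q M c' β := by
  unfold Sch
  simp only [Pw_congr hQ h]

theorem twist_Sch (hQ : IsUnit (Q : ZMod M)) (a : ZMod M) (ha : TorZ Q M 1 a) {m : ℕ} (c : ZMod M) (β : Fin m → ℕ) :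
    twist Q M a (Sch Q M c β) = Sch Q M (c + a) β := by
  unfold Sch
  rw [map_sum]
  refine Finset.sum_congr rfl fun ν _ => ?_
  rw [map_smul, map_multiset_prod, Multiset.map_map]
  congr 2
  refine Multiset.map_congr rfl fun j _ => ?_
  exact twist_Pw hQ a ha j c

theorem tup_congr {α : Type*} {t : ZMod M → α} (ht : ∀ c, t ((Q : ZMod M) * c) = t c) {c c' : ZMod M}
    (h : SameZ Q M c c') : t c' = t c := by
  obtain ⟨j, rfl⟩ := h
  induction j with
  | zero => rw [pow_zero, one_mul]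
  | succ j ih => rw [pow_succ', mul_assoc, ht, ih]

theorem twist_SchP (hQ : IsUnit (Q : ZMod M)) (a : ZMod M) (ha : TorZ Q M 1 a) {m : ℕ} (t : ZMod M → Fin m → ℕ)
    (ht : ∀ c, t ((Q : ZMod M) * c) = t c) :
    twist Q M a (SchP Q M t) = SchP Q M (fun c => t (c - a)) := by
  unfold SchP
  rw [map_prod]
  refine Finset.prod_nbij' (fun c => canon Q M (c + a)) (fun c => canon Q M (c - a)) ?_ ?_ ?_ ?_ ?_
  · intro c _
    rw [Finset.mem_filter]
    exact ⟨Finset.mem_univ _, canon_canon hQ _⟩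
  · intro c _
    rw [Finset.mem_filter]
    exact ⟨Finset.mem_univ _, canon_canon hQ _⟩
  · intro c hc
    rw [Finset.mem_filter] at hc
    have h1 := SameZ.sub ha (sameZ_canon hQ (c + a))
    rw [add_sub_cancel_right] at h1
    rw [← (canon_eq_iff hQ _ _).2 h1, hc.2]
  · intro c hc
    rw [Finset.mem_filter] at hc
    have h1 := SameZ.add ha (sameZ_canon hQ (c - a))
    rw [sub_add_cancel] at h1
    rw [← (canon_eq_iff hQ _ _).2 h1, hc.2]
  · intro c _
    have h1 := sameZ_canon hQ (c + a)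
    have h2 := SameZ.sub ha h1
    rw [add_sub_cancel_right] at h2
    change twist Q M a (Sch Q M c (t c)) = Sch Q M (canon Q M (c + a)) (t (canon Q M (c + a) - a))
    rw [twist_Sch hQ a ha, tup_congr ht h2]
    exact Sch_congr hQ h1 _

/-! ### divisibility -/

theorem ppow_iff (hp : p.Prime) (a : ZMod M) : PPow M p a ↔ ∃ j : ℕ, p ^ j • a = 0 := by
  constructor
  · rintro ⟨j, hj⟩
    exact ⟨j, by rw [← hj]; exact addOrderOf_nsmul_eq_zero a⟩
  · rintro ⟨j, hj⟩
    obtain ⟨k, -, hk⟩ := (Nat.dvd_prime_pow hp).1 (addOrderOf_dvd_of_nsmul_eq_zero hj)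
    exact ⟨k, hk⟩

theorem PPow.add (hp : p.Prime) {a b : ZMod M} (ha : PPow M p a) (hb : PPow M p b) : PPow M p (a + b) := by
  rw [ppow_iff hp] at ha hb ⊢
  obtain ⟨j, hj⟩ := ha
  obtain ⟨k, hk⟩ := hb
  refine ⟨j + k, ?_⟩
  rw [nsmul_add, pow_add, mul_comm (p ^ j), mul_nsmul', hj, smul_zero, mul_comm (p ^ k), mul_nsmul', hk, smul_zero, add_zero]

theorem PPow.neg {a : ZMod M} (ha : PPow M p a) : PPow M p (-a) := by
  obtain ⟨j, hj⟩ := ha
  exact ⟨j, by rw [addOrderOf_neg, hj]⟩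

/-- sums of invariant functions over invariant sets -/
theorem addOrderOf_dvd_sum {G : Type*} [AddCommGroup G] [Finite G] (a : G) (T : Finset G) (hT : ∀ c, c + a ∈ T ↔ c ∈ T)
    (f : G → ℕ) (hf : ∀ c, f (c + a) = f c) : addOrderOf a ∣ ∑ c ∈ T, f c := by
  classical
  have hT' : ∀ (k : ℕ) (c : G), c + k • a ∈ T ↔ c ∈ T := by
    intro k
    induction k with
    | zero => intro c; rw [zero_nsmul, add_zero]
    | succ k ih => intro c; rw [succ_nsmul, ← add_assoc, hT, ih]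
  have hf' : ∀ (k : ℕ) (c : G), f (c + k • a) = f c := by
    intro k
    induction k with
    | zero => intro c; rw [zero_nsmul, add_zero]
    | succ k ih => intro c; rw [succ_nsmul, ← add_assoc, hf, ih]
  rw [← Finset.sum_fiberwise_of_maps_to (s := T) (t := T.image (fun c => (QuotientAddGroup.mk c : G ⧸ AddSubgroup.zmultiples a)))
    (g := fun c => (QuotientAddGroup.mk c : G ⧸ AddSubgroup.zmultiples a)) (fun c hc => Finset.mem_image_of_mem _ hc)]
  refine Finset.dvd_sum fun y hy => ?_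
  obtain ⟨x, hx, rfl⟩ := Finset.mem_image.1 hy
  have hn : 0 < addOrderOf a := addOrderOf_pos a
  have hfib : T.filter (fun c => (QuotientAddGroup.mk c : G ⧸ AddSubgroup.zmultiples a) = QuotientAddGroup.mk x) =
      (Finset.range (addOrderOf a)).image (fun k => x + k • a) := by
    ext c
    rw [Finset.mem_filter, Finset.mem_image]
    constructor
    · rintro ⟨-, h2⟩
      rw [eq_comm, QuotientAddGroup.eq, AddSubgroup.mem_zmultiples_iff] at h2
      obtain ⟨z, hz⟩ := h2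
      refine ⟨(z % addOrderOf a).toNat, ?_, ?_⟩
      · rw [Finset.mem_range]
        have h3 : z % (addOrderOf a : ℤ) < addOrderOf a := Int.emod_lt_of_pos _ (by exact_mod_cast hn)
        have h4 : 0 ≤ z % (addOrderOf a : ℤ) := Int.emod_nonneg _ (by exact_mod_cast hn.ne')
        omega
      · have h4 : 0 ≤ z % (addOrderOf a : ℤ) := Int.emod_nonneg _ (by exact_mod_cast hn.ne')
        have h5 : ((z % (addOrderOf a : ℤ)).toNat) • a = z • a := by
          rw [← natCast_zsmul, Int.toNat_of_nonneg h4, mod_addOrderOf_zsmul a z]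
        rw [h5, hz]
        abel
    · rintro ⟨k, -, rfl⟩
      refine ⟨(hT' k x).2 hx, ?_⟩
      rw [eq_comm, QuotientAddGroup.eq]
      exact ⟨k, by simp⟩
  have hinj : Set.InjOn (fun k : ℕ => x + k • a) (Finset.range (addOrderOf a) : Set ℕ) := by
    intro k hk l hl hkl
    rw [Finset.coe_range, Set.mem_Iio] at hk hl
    exact nsmul_injOn_Iio_addOrderOf hk hl (add_left_cancel hkl)
  have hsum : ∑ c ∈ T.filter (fun c => (QuotientAddGroup.mk c : G ⧸ AddSubgroup.zmultiples a) = QuotientAddGroup.mk x), f c =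
      addOrderOf a * f x := by
    rw [hfib, Finset.sum_image hinj, Finset.sum_congr rfl (fun k _ => hf' k x), Finset.sum_const, Finset.card_range,
      smul_eq_mul]
  exact ⟨f x, hsum⟩

/-- a `p`-power twist fixing the tuples: the order divides all the multiplicities -/
theorem dvd_sfun (hp : p.Prime) {m : ℕ} (t : ZMod M → Fin m → ℕ) (a : ZMod M) (ha : PPow M p a) (h : ∀ c, t (c + a) = t c)
    (δ : ZMod M) : addOrderOf a ∣ sfun M p t δ := by
  unfold sfun
  refine addOrderOf_dvd_sum a _ (fun c => ?_) _ (fun c => by rw [h])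
  simp only [Finset.mem_filter, Finset.mem_univ, true_and]
  constructor
  · intro h1
    have h2 := PPow.add hp h1 (PPow.neg ha)
    rwa [show c + a - δ + -a = c - δ by abel] at h2
  · intro h1
    have h2 := PPow.add hp h1 ha
    rwa [show c - δ + a = c + a - δ by abel] at h2

end Cfsg.Agent.H157.GLB
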