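import Cfsg.Agent.H157.GLB.DA
import Cfsg.Agent.H614.Rank

/-!
# HUB S4536 / S4537, D4-G: combinatorics of the families (helper157)

* `exists_split` : the arithmetic of the periods;
* `eq_of_totW_zero` : a family of weight zero has only one member;
* `totW_congr` : the weight of a family.
-/

set_option autoImplicit false
set_option linter.unusedSectionVars false

namespace Cfsg.Agent.H157.GLB

open MvPolynomial Cfsg.Agent.H614 Cfsg.Agent.H577.GLB.Std
open Cfsg.Agent.H614.GLn.RSt (SameZ.symm' SameZ.trans' sameZ_refl canon_eq_of_same canon_canon perZ_pos pow_mul_eq_iff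
  perZ_of_same zz_eq')

variable {Q : ℤ} {M : ℕ} [NeZero M] {p : ℕ}

/-! ### `p'`-labels -/

theorem preg_iff (c : ZMod M) : PReg M p c ↔ ∃ N : ℕ, N.Coprime p ∧ N • c = 0 :=
  ⟨fun h => ⟨_, h, addOrderOf_nsmul_eq_zero c⟩, fun ⟨_, h1, h2⟩ =>
    Nat.Coprime.coprime_dvd_left (addOrderOf_dvd_of_nsmul_eq_zero h2) h1⟩

theorem PReg.sub {a b : ZMod M} (ha : PReg M p a) (hb : PReg M p b) : PReg M p (a - b) := by
  rw [preg_iff] at ha hb ⊢
  obtain ⟨N, hN, h1⟩ := ha
  obtain ⟨N', hN', h2⟩ := hb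
  refine ⟨N * N', hN.mul_left hN', ?_⟩
  rw [smul_sub, mul_comm N N', mul_nsmul', h1, smul_zero, mul_comm N' N, mul_nsmul', h2, smul_zero, sub_zero]

theorem eq_zero_of_preg_ppow (hp : p.Prime) {x : ZMod M} (h1 : PReg M p x) (h2 : PPow M p x) : x = 0 := by
  obtain ⟨j, hj⟩ := h2
  rw [PReg, hj] at h1
  rcases Nat.eq_zero_or_pos j with rfl | h
  · rw [pow_zero] at hj
    exact AddMonoid.addOrderOf_eq_one_iff.1 hj
  · exact absurd h1 (by rw [Nat.coprime_pow_left_iff h, Nat.coprime_self]; exact hp.one_lt.ne')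

theorem PReg.of_same {c c' : ZMod M} (h : SameZ Q M c c') (hc : PReg M p c) : PReg M p c' := by
  rw [preg_iff] at hc ⊢
  obtain ⟨N, hN, h1⟩ := hc
  obtain ⟨j, rfl⟩ := h
  exact ⟨N, hN, by rw [← mul_smul_comm, h1, mul_zero]⟩

/-- the `p'`-part -/
theorem exists_preg (hp : p.Prime) (c : ZMod M) : ∃ δ : ZMod M, PReg M p δ ∧ PPow M p (c - δ) := by
  have hpos : 0 < addOrderOf c := addOrderOf_pos c
  obtain ⟨a, r, hr, hor⟩ := Nat.exists_eq_pow_mul_and_not_dvd hpos.ne' p hp.ne_one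
  have hcop : Nat.Coprime (p ^ a) r := Nat.Coprime.pow_left a ((Nat.Prime.coprime_iff_not_dvd hp).2 hr)
  obtain ⟨k, hk1, hk2⟩ := Nat.chineseRemainder hcop 0 1
  refine ⟨k • c, ?_, ?_⟩
  · rw [preg_iff]
    refine ⟨r, ((Nat.Prime.coprime_iff_not_dvd hp).2 hr).symm, ?_⟩
    obtain ⟨l, rfl⟩ := (Nat.modEq_zero_iff_dvd).1 hk1
    rw [← mul_nsmul', show r * (p ^ a * l) = l * (p ^ a * r) by ring, ← hor, mul_nsmul', addOrderOf_nsmul_eq_zero,
      smul_zero]
  · rw [ppow_iff hp]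
    refine ⟨a, ?_⟩
    have h1 : ((addOrderOf c : ℕ) : ℤ) ∣ (p ^ a : ℕ) * (1 - k) := by
      rw [hor, Nat.cast_mul]
      refine mul_dvd_mul dvd_rfl ?_
      have := (Nat.modEq_iff_dvd).1 hk2
      simpa using this
    have h2 : ((p ^ a : ℕ) * (1 - (k : ℤ))) • c = 0 := by
      rw [← addOrderOf_dvd_iff_zsmul_eq_zero]
      exact h1
    rw [mul_zsmul', sub_zsmul, one_zsmul, natCast_zsmul, natCast_zsmul] at h2
    rw [smul_sub, smul_comm (p ^ a) k c, sub_eq_add_neg]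
    exact h2

theorem sfun_of_pOnly (hp : p.Prime) {m : ℕ} {t : ZMod M → Fin m → ℕ} (ht : POnly M p t) {δ : ZMod M}
    (hδ : PReg M p δ) : sfun M p t δ = bsz (t δ) := by
  classical
  unfold sfun
  rw [Finset.sum_eq_single δ]
  · intro c hc hcδ
    rw [Finset.mem_filter] at hc
    apply ht
    intro h
    exact hcδ (sub_eq_zero.1 (eq_zero_of_preg_ppow hp (PReg.sub h hδ) hc.2))
  · intro h
    exfalso
    apply h
    rw [Finset.mem_filter, sub_self]
    exact ⟨Finset.mem_univ _, 0, by simp⟩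

theorem bsz_add_le_sfun {m : ℕ} (t : ZMod M → Fin m → ℕ) {δ c : ZMod M} (hc : PPow M p (c - δ)) (hne : c ≠ δ) :
    bsz (t δ) + bsz (t c) ≤ sfun M p t δ := by
  classical
  unfold sfun
  rw [← Finset.sum_pair (f := fun c => bsz (t c)) hne.symm]
  refine Finset.sum_le_sum_of_subset fun x hx => ?_
  rw [Finset.mem_insert, Finset.mem_singleton] at hx
  rw [Finset.mem_filter]
  refine ⟨Finset.mem_univ _, ?_⟩
  rcases hx with rfl | rfl
  · rw [sub_self]
    exact ⟨0, by simp⟩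
  · exact hc

theorem bsz_le_sfun {m : ℕ} (t : ZMod M → Fin m → ℕ) (δ : ZMod M) : bsz (t δ) ≤ sfun M p t δ := by
  classical
  unfold sfun
  refine Finset.single_le_sum (f := fun c => bsz (t c)) (fun _ _ => Nat.zero_le _) ?_
  rw [Finset.mem_filter, sub_self]
  exact ⟨Finset.mem_univ _, 0, by simp⟩

/-! ### tuples -/

section tuples

variable {m : ℕ}

theorem sum_eq_bsz {β : Fin m → ℕ} (h : StrictMono β) : ∑ i, β i = bsz β + ∑ i : Fin m, (i : ℕ) := by
  unfold bsz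
  rw [Nat.sub_add_cancel]
  exact Finset.sum_le_sum fun i _ => strictMono_le h i

theorem eq_of_bsz_zero {β : Fin m → ℕ} (h : StrictMono β) (h0 : bsz β = 0) : β = fun i : Fin m => (i : ℕ) := by
  have h1 := sum_eq_bsz h
  rw [h0, zero_add] at h1
  have h2 := (Finset.sum_eq_sum_iff_of_le (s := Finset.univ) (f := fun i : Fin m => (i : ℕ)) (g := β)
    (fun i _ => strictMono_le h i)).1 h1.symm
  funext i
  exact (h2 i (Finset.mem_univ _)).symm

theorem sum_split (e : ℕ) (β : Fin m → ℕ) : ∑ j, β j = e * ∑ j, β j / e + ∑ j, β j % e := by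
  rw [Finset.mul_sum, ← Finset.sum_add_distrib]
  exact Finset.sum_congr rfl fun j _ => (Nat.div_add_mod _ _).symm

theorem bsz_le_of_ewt_zero {e : ℕ} (he : 0 < e) {β γ : Fin m → ℕ} (hβ : StrictMono β) (hγ : StrictMono γ)
    (hc : SameCol e β γ) (h0 : ewt e β = 0) : bsz β ≤ bsz γ ∧ (bsz γ = bsz β → γ = β) := by
  have h1 : ∑ j, β j / e = npairs e β := by
    have := npairs_le he hβ.injective
    unfold ewt at h0
    omega
  have h2 := npairs_of_sameCol hc
  have h3 := npairs_le he hγ.injective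
  have h4 := sum_mod_of_sameCol hc
  have h5 := sum_split e β
  have h6 := sum_split e γ
  have h7 := sum_eq_bsz hβ
  have h8 := sum_eq_bsz hγ
  have h9 : e * ∑ j, β j / e ≤ e * ∑ j, γ j / e := Nat.mul_le_mul_left _ (by rw [h1, h2]; exact h3)
  refine ⟨by omega, fun h => ?_⟩
  have h10 : e * ∑ j, β j / e = e * ∑ j, γ j / e := by omega
  have h11 := Nat.eq_of_mul_eq_mul_left he h10
  obtain ⟨σ, hσ⟩ := exists_perm_of_weight_zero he hβ.injective hγ.injective h1 (by rw [← h11, h1, h2]) hc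
  refine (hγ.range_inj hβ).1 ?_
  rw [hσ, EquivLike.range_comp]

theorem ewt_congr {e : ℕ} (he : 0 < e) {β γ : Fin m → ℕ} (hβ : StrictMono β) (hγ : StrictMono γ)
    (hc : SameCol e β γ) (h : bsz β = bsz γ) : ewt e β = ewt e γ := by
  have h2 := npairs_of_sameCol hc
  have h4 := sum_mod_of_sameCol hc
  have h5 := sum_split e β
  have h6 := sum_split e γ
  have h7 := sum_eq_bsz hβ
  have h8 := sum_eq_bsz hγ
  have h10 : e * ∑ j, β j / e = e * ∑ j, γ j / e := by omega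
  have h11 := Nat.eq_of_mul_eq_mul_left he h10
  unfold ewt
  rw [h11, h2]

end tuples

theorem orderOf_pos_of_unit (hp : p.Prime) {x : ZMod p} (hx : IsUnit x) : 0 < orderOf x := by
  have := Fact.mk hp
  obtain ⟨w, rfl⟩ := hx
  rw [orderOf_units]
  exact orderOf_pos w

theorem eD_pos (hp : p.Prime) (hQp : IsUnit (Q : ZMod p)) (δ : ZMod M) : 0 < eD Q M p δ :=
  orderOf_pos_of_unit hp (hQp.pow _)

theorem eD_congr (hQ : IsUnit (Q : ZMod M)) {δ δ' : ZMod M} (h : SameZ Q M δ δ') : eD Q M p δ = eD Q M p δ' := by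
  unfold eD
  rw [perZ_of_same hQ h]

theorem ewt_of_totW_zero (hQ : IsUnit (Q : ZMod M)) {m n : ℕ} (t : LabZ Q M m n) (h0 : totW Q M p t.t = 0)
    {δ : ZMod M} (hδ : PReg M p δ) : ewt (eD Q M p δ) (t.t δ) = 0 := by
  classical
  have h1 := sameZ_canon hQ δ
  unfold totW at h0
  rw [Finset.sum_eq_zero_iff] at h0
  have h2 := h0 (canon Q M δ) (by
    rw [Finset.mem_filter]
    exact ⟨Finset.mem_univ _, canon_canon hQ δ, PReg.of_same h1 hδ⟩)
  rwa [← eD_congr hQ h1, tup_congr t.orb h1] at h2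

/-- D4-G: a family of weight zero has only one member -/
theorem eq_of_totW_zero (hp : p.Prime) (hQ : IsUnit (Q : ZMod M)) (hQp : IsUnit (Q : ZMod p)) {m n : ℕ} (_hmn : n ≤ m)
    (t t' : LabZ Q M m n) (ht : POnly M p t.t) (h0 : totW Q M p t.t = 0) (h : SameFam Q M p t.t t'.t) : t' = t := by
  have key : ∀ δ, PReg M p δ → t'.t δ = t.t δ ∧ sfun M p t'.t δ = bsz (t'.t δ) := by
    intro δ hδ
    obtain ⟨h1, h2⟩ := h δ hδ
    rw [sfun_of_pOnly hp ht hδ] at h1
    obtain ⟨h3, h4⟩ := bsz_le_of_ewt_zero (eD_pos hp hQp δ) (t.mono δ) (t'.mono δ) h2 (ewt_of_totW_zero hQ t h0 hδ)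
    have h5 := bsz_le_sfun (p := p) t'.t δ
    have h6 : bsz (t'.t δ) = bsz (t.t δ) := by omega
    exact ⟨h4 h6, by omega⟩
  apply LabZ.ext
  funext c
  by_cases hc : PReg M p c
  · exact (key c hc).1
  · obtain ⟨δ, hδ, hcδ⟩ := exists_preg hp c
    have hne : c ≠ δ := by
      rintro rfl
      exact hc hδ
    have h1 := bsz_add_le_sfun t'.t hcδ hne
    have h2 := (key δ hδ).2
    rw [eq_of_bsz_zero (t'.mono c) (by omega), eq_of_bsz_zero (t.mono c) (ht c hc)]

/-- D4-G2: the weight of a family -/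
theorem totW_congr (hp : p.Prime) (_hQ : IsUnit (Q : ZMod M)) (hQp : IsUnit (Q : ZMod p)) {m n : ℕ} (_hmn : n ≤ m)
    (t t' : LabZ Q M m n) (ht : POnly M p t.t) (ht' : POnly M p t'.t) (h : SameFam Q M p t.t t'.t) :
    totW Q M p t'.t = totW Q M p t.t := by
  classical
  unfold totW
  refine Finset.sum_congr rfl fun δ hδ => ?_
  rw [Finset.mem_filter] at hδ
  obtain ⟨h1, h2⟩ := h δ hδ.2.2
  rw [sfun_of_pOnly hp ht hδ.2.2, sfun_of_pOnly hp ht' hδ.2.2] at h1
  exact (ewt_congr (eD_pos hp hQp δ) (t.mono δ) (t'.mono δ) h2 h1).symm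

/-! ### periods -/

/-- D4-G3: the arithmetic of the periods: `d = perZ δ`, `e = ord_p(Q)`, `e_δ d = lcm(e, d) = (e p^s) k` with `k` the
period of `δ` for `Q ^ (e p^s)`, prime to `p` -/
theorem exists_split (hp : p.Prime) (hQ : IsUnit (Q : ZMod M)) (hQp : IsUnit (Q : ZMod p)) (δ : ZMod M) :
    ∃ s k : ℕ, eD Q M p δ * perZ Q M δ = (orderOf (Q : ZMod p) * p ^ s) * k ∧ ¬ p ∣ k ∧ 0 < k ∧
      perZ (Q ^ (orderOf (Q : ZMod p) * p ^ s)) M δ = k ∧
      ∀ a : ZMod M, PReg M p a → TorZ Q M 1 a →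
        (∃ j : ℕ, δ + a = ((Q : ZMod M) ^ (orderOf (Q : ZMod p))) ^ j * δ) →
        ∃ j : ℕ, δ + a = (((Q ^ (orderOf (Q : ZMod p) * p ^ s) : ℤ) : ZMod M)) ^ j * δ := by
  have he := orderOf_pos_of_unit hp hQp
  have hd := perZ_pos hQ δ
  set e := orderOf (Q : ZMod p) with hedef
  set d := perZ Q M δ with hddef
  set g := Nat.gcd e d with hg
  have hg0 : 0 < g := Nat.gcd_pos_of_pos_left _ he
  have hdg0 : d / g ≠ 0 := (Nat.div_pos (Nat.gcd_le_right _ hd) hg0).ne'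
  obtain ⟨s, k, hk, hsk⟩ := Nat.exists_eq_pow_mul_and_not_dvd hdg0 p hp.ne_one
  have hcop : Nat.Coprime (e / g) (d / g) := Nat.coprime_div_gcd_div_gcd hg0
  have heg : g * (e / g) = e := Nat.mul_div_cancel' (Nat.gcd_dvd_left _ _)
  have hdg : g * (d / g) = d := Nat.mul_div_cancel' (Nat.gcd_dvd_right _ _)
  have heD : eD Q M p δ = e / g := by
    unfold eD
    rw [orderOf_pow' _ hd.ne']
  have hk0 : 0 < k := Nat.pos_of_ne_zero fun h => hk (h ▸ dvd_zero p)
  -- divisibility by `d`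
  have hdiv : ∀ j : ℕ, d ∣ e * j ↔ p ^ s * k ∣ j := by
    intro j
    rw [← hsk]
    constructor
    · rintro ⟨l, hl⟩
      have h1 : g * ((e / g) * j) = g * ((d / g) * l) := by rw [← mul_assoc, heg, ← mul_assoc, hdg, hl]
      have h2 := Nat.eq_of_mul_eq_mul_left hg0 h1
      exact (hcop.symm).dvd_of_dvd_mul_left ⟨l, h2⟩
    · rintro ⟨l, rfl⟩
      rw [← heg]
      refine ⟨(e / g) * l, ?_⟩
      calc g * (e / g) * (d / g * l) = (g * (d / g)) * ((e / g) * l) := by ring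
        _ = d * ((e / g) * l) := by rw [hdg]
  refine ⟨s, k, ?_, hk, hk0, ?_, ?_⟩
  · rw [heD, mul_assoc, ← hsk]
    calc e / g * d = e / g * (g * (d / g)) := by rw [hdg]
      _ = (g * (e / g)) * (d / g) := by ring
      _ = e * (d / g) := by rw [heg]
  · have key : ∀ j : ℕ, perZ (Q ^ (e * p ^ s)) M δ ∣ j ↔ k ∣ j := by
      intro j
      rw [← pow_mul_eq_iff]
      push_cast
      rw [← pow_mul, pow_mul_eq_iff, mul_assoc, ← hddef, hdiv]
      exact Nat.mul_dvd_mul_iff_left (pow_pos hp.pos s)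
    exact Nat.dvd_antisymm ((key _).2 dvd_rfl) ((key _).1 dvd_rfl)
  · rintro a ha ha1 ⟨j, hj⟩
    have hT : ∀ i : ℕ, ((Q : ZMod M) ^ e) ^ (j * i) * δ = δ + i • a := by
      intro i
      induction i with
      | zero => simp
      | succ i ih =>
        rw [mul_add, mul_one, pow_add, mul_comm (((Q : ZMod M) ^ e) ^ (j * i)), mul_assoc, ih, mul_add, ← hj,
          mul_smul_comm, ← pow_mul, pow_mul_tor ha1, succ_nsmul]
        abel
    have h1 := hT (addOrderOf a)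
    rw [addOrderOf_nsmul_eq_zero, add_zero, ← pow_mul, pow_mul_eq_iff, ← hddef, hdiv] at h1
    have h2 : p ^ s ∣ j * addOrderOf a := dvd_trans (dvd_mul_right _ _) h1
    have h3 : Nat.Coprime (p ^ s) (addOrderOf a) := Nat.Coprime.pow_left s (Nat.Coprime.symm ha)
    obtain ⟨i, rfl⟩ := h3.dvd_of_dvd_mul_right h2
    refine ⟨i, ?_⟩
    rw [hj]
    push_cast
    rw [← pow_mul, ← pow_mul, mul_assoc]

end Cfsg.Agent.H157.GLB
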